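import Mathlib.AlgebraicGeometry.AffineScheme
import Mathlib.CategoryTheory.Monoidal.Cartesian.Over
import Mathlib.CategoryTheory.Monoidal.Cartesian.Grp
import Groth.Prelude.Def_Red

/-!
Points with values in affine schemes of schemes over an affine base.
-/

universe u

open CategoryTheory Limits MonoidalCategory CartesianMonoidalCategory MonObj AlgebraicGeometry

namespace Groth.Agent.AffPts

variable (k : Type u) [CommRing k]

/-- `Spec B` over `Spec k`. -/
noncomputable abbrev specOver (B : Type u) [CommRing B] [Algebra k B] : Over (Spec (CommRingCat.of k)) :=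
  Over.mk (Spec.map (CommRingCat.ofHom (algebraMap k B)))

/-- Functoriality of `specOver`. -/
noncomputable def specMap {B B' : Type u} [CommRing B] [CommRing B'] [Algebra k B] [Algebra k B']
    (φ : B →ₐ[k] B') : specOver k B' ⟶ specOver k B :=
  Over.homMk (Spec.map (CommRingCat.ofHom φ.toRingHom)) (by
    show Spec.map _ ≫ Spec.map _ = Spec.map _
    rw [← Spec.map_comp, ← CommRingCat.ofHom_comp, AlgHom.toRingHom_eq_coe, AlgHom.comp_algebraMap])

variable {k}

/-- Morphisms out of an affine scheme are determined by its points. -/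
theorem hom_ext_of_points {W G : Over (Spec (CommRingCat.of k))} [IsAffine W.left] {f g : W ⟶ G}
    (h : ∀ (B : Type u) [CommRing B] [Algebra k B] (q : specOver k B ⟶ W), q ≫ f = q ≫ g) : f = g := by
  letI : Algebra k Γ(W.left, ⊤) := (Spec.preimage (W.left.isoSpec.inv ≫ W.hom)).hom.toAlgebra
  let q : specOver k Γ(W.left, ⊤) ⟶ W := Over.homMk W.left.isoSpec.inv (Spec.map_preimage _).symm
  have hq := congrArg CommaMorphism.left (h Γ(W.left, ⊤) q)
  simp [q] at hq
  exact Over.OverMorphism.ext hq

section BC

variable (k) (C : Type u) [CommRing C] [Algebra (ULift.{u} ℤ) C]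

/-- The base change to `k` of `Spec C`. -/
noncomputable abbrev bcSpec : Over (Spec (CommRingCat.of k)) :=
  Red.bc (IsTerminal.from specULiftZIsTerminal (Spec (CommRingCat.of k)))
    ((Spec (CommRingCat.of C)).asOver (Spec (CommRingCat.of (ULift.{u} ℤ))))

variable (B : Type u) [CommRing B] [Algebra k B]

/-- Points with values in `B` of the base change of `Spec C`. -/
noncomputable def ptsEquiv : (specOver k B ⟶ bcSpec k C) ≃ (C →+* B) where
  toFun f := (Spec.preimage (f.left ≫ pullback.fst _ _)).hom
  invFun φ := Over.homMk (pullback.lift (Spec.map (CommRingCat.ofHom φ))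
    (Spec.map (CommRingCat.ofHom (algebraMap k B))) (specULiftZIsTerminal.hom_ext _ _)) (pullback.lift_snd _ _ _)
  left_inv f := Over.OverMorphism.ext (pullback.hom_ext
    ((pullback.lift_fst _ _ _).trans (Spec.map_preimage _))
    ((pullback.lift_snd _ _ _).trans (Over.w f).symm))
  right_inv φ := congrArg (fun t => CommRingCat.Hom.hom t)
    ((congrArg Spec.preimage (pullback.lift_fst _ _ _)).trans (Spec.preimage_map (CommRingCat.ofHom φ)))

variable {k C B}

theorem ptsEquiv_specMap {B' : Type u} [CommRing B'] [Algebra k B'] (φ : B →ₐ[k] B')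
    (f : specOver k B ⟶ bcSpec k C) :
    ptsEquiv k C B' (specMap k φ ≫ f) = φ.toRingHom.comp (ptsEquiv k C B f) := by
  show (Spec.preimage ((specMap k φ ≫ f).left ≫ pullback.fst _ _)).hom = _
  rw [show Spec.preimage ((specMap k φ ≫ f).left ≫ pullback.fst _ _) =
    Spec.preimage (f.left ≫ pullback.fst _ _) ≫ CommRingCat.ofHom φ.toRingHom from Spec.map_injective (by
      rw [Spec.map_preimage, Spec.map_comp, Spec.map_preimage, Over.comp_left, Category.assoc]
      rfl)]
  rfl

instance : IsAffine (bcSpec k C).left := by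
  haveI : IsAffine ((Spec (CommRingCat.of C)).asOver (Spec (CommRingCat.of (ULift.{u} ℤ)))).left :=
    inferInstanceAs (IsAffine (Spec (CommRingCat.of C)))
  exact inferInstanceAs (IsAffine (pullback _ _))

instance isAffine_tensor : IsAffine (bcSpec k C ⊗ bcSpec k C).left :=
  inferInstanceAs (IsAffine (pullback (bcSpec k C).hom (bcSpec k C).hom))

end BC

end Groth.Agent.AffPts
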