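import Groth.Agent.AffPts.Basic
import Groth.Prelude.Def_Red2

/-!
Points of the additive and of the multiplicative group.
-/

universe u

open CategoryTheory Limits MonoidalCategory CartesianMonoidalCategory MonObj AlgebraicGeometry

namespace Groth.Agent.AffPts

theorem ringHom_ulift_int_ext {B : Type*} [Ring B] (f g : ULift.{u} ℤ →+* B) : f = g := by
  ext ⟨n⟩
  exact RingHom.congr_fun (RingHom.ext_int (f.comp ULift.ringEquiv.symm.toRingHom) (g.comp ULift.ringEquiv.symm.toRingHom)) n

theorem existsUnique_sym {B : Type u} [CommRing B] (b : B) :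
    ∃! φ : SymmetricAlgebra (ULift.{u} ℤ) (ULift.{u} ℤ) →+* B, φ (SymmetricAlgebra.ι _ _ (ULift.up 1)) = b := by
  letI : Algebra (ULift.{u} ℤ) B :=
    { algebraMap := (Int.castRingHom B).comp (ULift.ringEquiv : ULift.{u} ℤ ≃+* ℤ).toRingHom
      smul := fun r x => r.down • x
      commutes' := fun _ _ => mul_comm _ _
      smul_def' := fun r x => zsmul_eq_mul x r.down }
  refine ⟨(SymmetricAlgebra.lift ((LinearMap.id : ULift.{u} ℤ →ₗ[ULift.{u} ℤ] ULift.{u} ℤ).smulRight b)).toRingHom, ?_,
    fun φ hφ => ?_⟩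
  · show SymmetricAlgebra.lift _ (SymmetricAlgebra.ι _ _ (ULift.up 1)) = b
    rw [SymmetricAlgebra.lift_ι_apply]
    exact one_smul (ULift.{u} ℤ) b
  · let ψ : SymmetricAlgebra (ULift.{u} ℤ) (ULift.{u} ℤ) →ₐ[ULift.{u} ℤ] B :=
      { φ with commutes' := fun r => RingHom.congr_fun (ringHom_ulift_int_ext (φ.comp (algebraMap _ _)) (algebraMap _ B)) r }
    suffices ψ = SymmetricAlgebra.lift ((LinearMap.id : ULift.{u} ℤ →ₗ[ULift.{u} ℤ] ULift.{u} ℤ).smulRight b) from
      congrArg AlgHom.toRingHom this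
    refine SymmetricAlgebra.algHom_ext (LinearMap.ext_ring ?_)
    show ψ (SymmetricAlgebra.ι _ _ (ULift.up 1)) =
      SymmetricAlgebra.lift ((LinearMap.id : ULift.{u} ℤ →ₗ[ULift.{u} ℤ] ULift.{u} ℤ).smulRight b) (SymmetricAlgebra.ι _ _ (ULift.up 1))
    rw [SymmetricAlgebra.lift_ι_apply]
    exact hφ.trans (one_smul (ULift.{u} ℤ) b).symm

/-- Ring homomorphisms out of the coordinate ring of the additive group. -/
noncomputable def symEquiv (B : Type u) [CommRing B] :
    (SymmetricAlgebra (ULift.{u} ℤ) (ULift.{u} ℤ) →+* B) ≃ B where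
  toFun φ := φ (SymmetricAlgebra.ι _ _ (ULift.up 1))
  invFun b := (existsUnique_sym b).exists.choose
  left_inv φ := (existsUnique_sym _).unique (existsUnique_sym _).exists.choose_spec rfl
  right_inv b := (existsUnique_sym b).exists.choose_spec

/-- Ring homomorphisms out of the coordinate ring of the multiplicative group. -/
noncomputable def laurentEquiv (B : Type u) [CommRing B] :
    (MonoidAlgebra (ULift.{u} ℤ) (Multiplicative ℤ) →+* B) ≃ Bˣ where
  toFun φ := ((φ : MonoidAlgebra (ULift.{u} ℤ) (Multiplicative ℤ) →* B).comp (MonoidAlgebra.of _ _)).toHomUnits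
    (Multiplicative.ofAdd 1)
  invFun v := MonoidAlgebra.liftNCRingHom ((Int.castRingHom B).comp ULift.ringEquiv.toRingHom)
    ((Units.coeHom B).comp (zpowersHom Bˣ v)) fun _ _ => Commute.all _ _
  left_inv φ := by
    refine MonoidAlgebra.ringHom_ext (fun r => ?_) (fun m => ?_)
    · simp only [MonoidAlgebra.liftNCRingHom_single, MonoidHom.comp_apply]
      rw [show φ (MonoidAlgebra.single 1 r) = ((Int.castRingHom B).comp ULift.ringEquiv.toRingHom) r from
        RingHom.congr_fun (ringHom_ulift_int_ext (φ.comp MonoidAlgebra.singleOneRingHom) _) r]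
      simp
    · simp only [MonoidAlgebra.liftNCRingHom_single, map_one, _root_.one_mul]
      rw [MonoidHom.comp_apply, zpowersHom_apply, ← map_zpow, ← ofAdd_zsmul, smul_eq_mul, _root_.mul_one, ofAdd_toAdd]
      rfl
  right_inv v := Units.ext (by simp [MonoidAlgebra.liftNCRingHom_single])

variable {k : Type u} [CommRing k]

/-- Points of the additive group. -/
noncomputable def gaPts (B : Type u) [CommRing B] [Algebra k B] :
    (specOver k B ⟶ Red.Ga (Spec (CommRingCat.of k))) ≃ B :=
  (ptsEquiv k (SymmetricAlgebra (ULift.{u} ℤ) (ULift.{u} ℤ)) B).trans (symEquiv B)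

theorem gaPts_specMap {B B' : Type u} [CommRing B] [CommRing B'] [Algebra k B] [Algebra k B'] (φ : B →ₐ[k] B')
    (f : specOver k B ⟶ Red.Ga (Spec (CommRingCat.of k))) : gaPts B' (specMap k φ ≫ f) = φ (gaPts B f) := by
  show symEquiv B' (ptsEquiv k (SymmetricAlgebra (ULift.{u} ℤ) (ULift.{u} ℤ)) B' (specMap k φ ≫ f)) = _
  rw [ptsEquiv_specMap]
  rfl

/-- Points of the multiplicative group. -/
noncomputable def gmPts (B : Type u) [CommRing B] [Algebra k B] :
    (specOver k B ⟶ Red.Gm (Spec (CommRingCat.of k))) ≃ Bˣ :=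
  (ptsEquiv k (MonoidAlgebra (ULift.{u} ℤ) (Multiplicative ℤ)) B).trans (laurentEquiv B)

theorem gmPts_specMap {B B' : Type u} [CommRing B] [CommRing B'] [Algebra k B] [Algebra k B'] (φ : B →ₐ[k] B')
    (f : specOver k B ⟶ Red.Gm (Spec (CommRingCat.of k))) :
    gmPts B' (specMap k φ ≫ f) = Units.map (φ : B →* B') (gmPts B f) := by
  show laurentEquiv B' (ptsEquiv k (MonoidAlgebra (ULift.{u} ℤ) (Multiplicative ℤ)) B' (specMap k φ ≫ f)) = _
  rw [ptsEquiv_specMap]
  exact Units.ext rfl

section Law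

variable {G : Over (Spec (CommRingCat.of k))} {V : ∀ (B : Type u) [CommRing B] [Algebra k B], Type u}
  (pts : ∀ (B : Type u) [CommRing B] [Algebra k B], (specOver k B ⟶ G) ≃ V B) (h : GrpObj G)

/-- The multiplication on points of a group object. -/
noncomputable def ptMul (B : Type u) [CommRing B] [Algebra k B] (a b : V B) : V B :=
  pts B (CartesianMonoidalCategory.lift ((pts B).symm a) ((pts B).symm b) ≫ h.mul)

/-- The unit on points of a group object. -/
noncomputable def ptOne (B : Type u) [CommRing B] [Algebra k B] : V B :=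
  pts B (toUnit _ ≫ h.one)

variable {pts h}

theorem ptMul_assoc (B : Type u) [CommRing B] [Algebra k B] (a b c : V B) :
    ptMul pts h B (ptMul pts h B a b) c = ptMul pts h B a (ptMul pts h B b c) := by
  letI := h
  simp only [ptMul, Equiv.symm_apply_apply]
  exact congrArg (pts B) (_root_.mul_assoc ((pts B).symm a) ((pts B).symm b) ((pts B).symm c))

theorem ptMul_one (B : Type u) [CommRing B] [Algebra k B] (a : V B) :
    ptMul pts h B (ptOne pts h B) a = a ∧ ptMul pts h B a (ptOne pts h B) = a := by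
  letI := h
  simp only [ptMul, ptOne, Equiv.symm_apply_apply]
  constructor
  · exact (congrArg (pts B) (_root_.one_mul ((pts B).symm a))).trans ((pts B).apply_symm_apply a)
  · exact (congrArg (pts B) (_root_.mul_one ((pts B).symm a))).trans ((pts B).apply_symm_apply a)

theorem ptMul_inv (B : Type u) [CommRing B] [Algebra k B] (a : V B) :
    ∃ b : V B, ptMul pts h B a b = ptOne pts h B := by
  letI := h
  refine ⟨pts B ((pts B).symm a)⁻¹, ?_⟩
  simp only [ptMul, ptOne, Equiv.symm_apply_apply]
  exact congrArg (pts B) (_root_.mul_inv_cancel ((pts B).symm a))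

theorem ptMul_nat {B B' : Type u} [CommRing B] [CommRing B'] [Algebra k B] [Algebra k B'] (φ : B →ₐ[k] B')
    (tr : V B → V B') (htr : ∀ f, pts B' (specMap k φ ≫ f) = tr (pts B f)) (a b : V B) :
    tr (ptMul pts h B a b) = ptMul pts h B' (tr a) (tr b) := by
  have e : ∀ a : V B, (pts B').symm (tr a) = specMap k φ ≫ (pts B).symm a := fun a => by
    rw [Equiv.symm_apply_eq, htr, Equiv.apply_symm_apply]
  rw [ptMul, ptMul, ← htr, e, e, ← Category.assoc, comp_lift]

theorem ptOne_nat {B B' : Type u} [CommRing B] [CommRing B'] [Algebra k B] [Algebra k B'] (φ : B →ₐ[k] B')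
    (tr : V B → V B') (htr : ∀ f, pts B' (specMap k φ ≫ f) = tr (pts B f)) :
    tr (ptOne pts h B) = ptOne pts h B' := by
  rw [ptOne, ptOne, ← htr, ← Category.assoc]
  congr 2
  exact toUnit_unique _ _

theorem mul_eq_of_ptMul [IsAffine (G ⊗ G).left] (h₁ h₂ : GrpObj G)
    (H : ∀ (B : Type u) [CommRing B] [Algebra k B] (a b : V B), ptMul pts h₁ B a b = ptMul pts h₂ B a b) :
    h₁.mul = h₂.mul := by
  refine hom_ext_of_points fun B _ _ q => (pts B).injective ?_
  have := H B (pts B (q ≫ fst G G)) (pts B (q ≫ snd G G))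
  simp only [ptMul, Equiv.symm_apply_apply] at this
  rwa [show CartesianMonoidalCategory.lift (q ≫ fst G G) (q ≫ snd G G) = q by ext <;> simp] at this

end Law

end Groth.Agent.AffPts
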