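import Mathlib.Algebra.Polynomial.AlgebraMap
import Mathlib.Algebra.MvPolynomial.NoZeroDivisors
import Mathlib.Algebra.MvPolynomial.Equiv
import Mathlib.FieldTheory.RatFunc.Degree
import Mathlib.RingTheory.Localization.Away.Basic
import Mathlib.Tactic.FieldSimp
import Mathlib.Tactic.LinearCombination

/-!
Group laws on the affine line and the punctured line, on the level of points.
-/

universe u

open Polynomial

namespace Groth.Agent.AffPts

variable {k : Type u} [Field k]

/-- An associative natural operation on points of the line has degree at most one in the first argument. -/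
theorem exists_linear (μ : ∀ (B : Type u) [CommRing B] [Algebra k B], B → B → B)
    (nat : ∀ (B B' : Type u) [CommRing B] [Algebra k B] [CommRing B'] [Algebra k B'] (φ : B →ₐ[k] B') (a b : B),
      φ (μ B a b) = μ B' (φ a) (φ b))
    (assoc : ∀ (B : Type u) [CommRing B] [Algebra k B] (a b c : B), μ B (μ B a b) c = μ B a (μ B b c)) :
    ∃ p q : k[X], ∀ (B : Type u) [CommRing B] [Algebra k B] (a b : B), μ B a b = aeval b p * a + aeval b q := by
  let P : (k[X])[X] := μ _ X (C X)
  have rep : ∀ (B : Type u) [CommRing B] [Algebra k B] (a b : B),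
      μ B a b = P.eval₂ (aeval b : k[X] →ₐ[k] B).toRingHom a := by
    intro B _ _ a b
    let φ : (k[X])[X] →ₐ[k] B :=
      { eval₂RingHom (aeval b : k[X] →ₐ[k] B).toRingHom a with
        commutes' := fun r => by simp [IsScalarTower.algebraMap_apply k k[X] (k[X])[X]] }
    have h := nat _ _ φ X (C X)
    show _ = φ P
    rw [h]
    simp [φ]
  -- the degree
  let y : (k[X])[X] := C X
  let z : (k[X])[X] := X
  let p : (k[X])[X] → ((k[X])[X])[X] := fun w => P.map (aeval w : k[X] →ₐ[k] (k[X])[X]).toRingHom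
  have hp : ∀ w : (k[X])[X], μ ((k[X])[X])[X] X (C w) = p w := by
    intro w
    rw [rep, show ((aeval (C w) : k[X] →ₐ[k] ((k[X])[X])[X]).toRingHom) = C.comp (aeval w : k[X] →ₐ[k] (k[X])[X]).toRingHom from
      Polynomial.ringHom_ext (fun r => by simp [IsScalarTower.algebraMap_apply k (k[X])[X] ((k[X])[X])[X]]) (by simp),
      ← eval₂_map, eval₂_C_X]
  have h1 : μ ((k[X])[X])[X] (μ ((k[X])[X])[X] X (C y)) (C z) = (p z).comp (p y) := by
    rw [hp, rep, show ((aeval (C z) : k[X] →ₐ[k] ((k[X])[X])[X]).toRingHom) = C.comp (aeval z : k[X] →ₐ[k] (k[X])[X]).toRingHom from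
      Polynomial.ringHom_ext (fun r => by simp [IsScalarTower.algebraMap_apply k (k[X])[X] ((k[X])[X])[X]]) (by simp),
      ← eval₂_map]
    rfl
  have h2 : μ ((k[X])[X])[X] X (μ ((k[X])[X])[X] (C y) (C z)) = p (μ (k[X])[X] y z) := by
    rw [← hp]
    congr 1
    exact (nat (k[X])[X] ((k[X])[X])[X] (IsScalarTower.toAlgHom k (k[X])[X] ((k[X])[X])[X]) y z).symm
  have hinj : ∀ w : (k[X])[X], Function.Injective (aeval w : k[X] →ₐ[k] (k[X])[X]) → (p w).natDegree = P.natDegree :=
    fun w hw => natDegree_map_eq_of_injective hw P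
  have hy : Function.Injective (aeval y : k[X] →ₐ[k] (k[X])[X]) := by
    rw [show (aeval y : k[X] →ₐ[k] (k[X])[X]) = IsScalarTower.toAlgHom k k[X] (k[X])[X] from algHom_ext (by simp [y])]
    exact C_injective
  have hz : Function.Injective (aeval z : k[X] →ₐ[k] (k[X])[X]) := by
    rw [show (aeval z : k[X] →ₐ[k] (k[X])[X]) = Polynomial.mapAlgHom (Algebra.ofId k k[X]) from algHom_ext (by simp [z])]
    exact Polynomial.map_injective _ C_injective
  have hdeg : P.natDegree ≤ 1 := by
    have h3 := assoc ((k[X])[X])[X] X (C y) (C z)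
    rw [h1, h2] at h3
    have h4 := congrArg natDegree h3
    rw [natDegree_comp, hinj y hy, hinj z hz] at h4
    have h5 : (p (μ (k[X])[X] y z)).natDegree ≤ P.natDegree := natDegree_map_le
    by_contra hgt
    nlinarith
  obtain ⟨c, d, hcd⟩ := exists_eq_X_add_C_of_natDegree_le_one hdeg
  exact ⟨c, d, fun B _ _ a b => by rw [rep, hcd]; simp⟩

/-- A group law on the points of the line is a translate of addition. -/
theorem ga_law (μ : ∀ (B : Type u) [CommRing B] [Algebra k B], B → B → B) (e : k)
    (nat : ∀ (B B' : Type u) [CommRing B] [Algebra k B] [CommRing B'] [Algebra k B'] (φ : B →ₐ[k] B') (a b : B),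
      φ (μ B a b) = μ B' (φ a) (φ b))
    (assoc : ∀ (B : Type u) [CommRing B] [Algebra k B] (a b c : B), μ B (μ B a b) c = μ B a (μ B b c))
    (hone : ∀ (B : Type u) [CommRing B] [Algebra k B] (a : B), μ B (algebraMap k B e) a = a ∧ μ B a (algebraMap k B e) = a)
    (hinv : ∀ a : k, ∃ b : k, μ k a b = e) (B : Type u) [CommRing B] [Algebra k B] (a b : B) :
    μ B a b = a + b - algebraMap k B e := by
  obtain ⟨p, q, hpq⟩ := exists_linear μ nat assoc
  obtain ⟨p', q', hpq'⟩ := exists_linear (fun B _ _ a b => μ B b a) (fun B B' _ _ _ _ φ a b => nat B B' φ b a)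
    (fun B _ _ a b c => (assoc B c b a).symm)
  have h1 : ∀ (B : Type u) [CommRing B] [Algebra k B] (a b : B),
      μ B a b = aeval b p * (a - algebraMap k B e) + b := by
    intro B _ _ a b
    have h := (hone B b).1
    rw [hpq] at h
    rw [hpq]
    linear_combination h
  have h1' : ∀ (B : Type u) [CommRing B] [Algebra k B] (a b : B),
      μ B a b = aeval a p' * (b - algebraMap k B e) + a := by
    intro B _ _ a b
    have h := (hone B a).2
    rw [hpq' B (algebraMap k B e) a] at h
    rw [hpq' B b a]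
    linear_combination h
  let δ : k := aeval (e + 1) p' - 1
  have hp : ∀ (B : Type u) [CommRing B] [Algebra k B] (b : B),
      aeval b p = 1 + algebraMap k B δ * (b - algebraMap k B e) := by
    intro B _ _ b
    have h := h1 B (algebraMap k B (e + 1)) b
    rw [h1' B (algebraMap k B (e + 1)) b, aeval_algebraMap_apply] at h
    simp only [δ, map_add, map_sub, map_one] at h ⊢
    linear_combination -h
  have hδ : δ = 0 := by
    by_contra hδ
    obtain ⟨b, hb⟩ := hinv (e - δ⁻¹)
    rw [h1, hp] at hb
    simp only [Algebra.algebraMap_self, RingHom.id_apply] at hb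
    field_simp at hb
    exact one_ne_zero (α := k) (by linear_combination -hb)
  rw [h1, hp, hδ, map_zero]
  ring

open scoped MvPolynomial in
/-- A natural operation with unit on the points of the punctured line is a translate of multiplication. -/
theorem gm_law (μ : ∀ (B : Type u) [CommRing B] [Algebra k B], Bˣ → Bˣ → Bˣ) (e : kˣ)
    (nat : ∀ (B B' : Type u) [CommRing B] [Algebra k B] [CommRing B'] [Algebra k B'] (φ : B →ₐ[k] B') (a b : Bˣ),
      Units.map (φ : B →* B') (μ B a b) = μ B' (Units.map (φ : B →* B') a) (Units.map (φ : B →* B') b))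
    (hone : ∀ (B : Type u) [CommRing B] [Algebra k B] (a : Bˣ),
      μ B (Units.map (algebraMap k B : k →* B) e) a = a ∧ μ B a (Units.map (algebraMap k B : k →* B) e) = a)
    (B : Type u) [CommRing B] [Algebra k B] (a b : Bˣ) :
    μ B a b = (Units.map (algebraMap k B : k →* B) e)⁻¹ * a * b := by
  classical
  let xy : (MvPolynomial (Fin 2) k) := MvPolynomial.X 0 * MvPolynomial.X 1
  let Λ := Localization.Away xy
  have hu : IsUnit (algebraMap (MvPolynomial (Fin 2) k) Λ (MvPolynomial.X 0) * algebraMap (MvPolynomial (Fin 2) k) Λ (MvPolynomial.X 1)) := by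
    rw [← map_mul]; exact IsLocalization.Away.algebraMap_isUnit xy
  let x := (isUnit_of_mul_isUnit_left hu).unit
  let y := (isUnit_of_mul_isUnit_right hu).unit
  let F := μ Λ x y
  obtain ⟨⟨p, _, N, rfl⟩, hp⟩ := IsLocalization.surj (Submonoid.powers xy) (F : Λ)
  obtain ⟨⟨q, _, N', rfl⟩, hq⟩ := IsLocalization.surj (Submonoid.powers xy) ((F⁻¹ : Λˣ) : Λ)
  simp only at hp hq
  have hxy : xy ≠ 0 := mul_ne_zero (MvPolynomial.X_ne_zero _) (MvPolynomial.X_ne_zero _)
  have hpq : p * q = xy ^ (N + N') := by
    apply IsLocalization.injective Λ (powers_le_nonZeroDivisors_of_noZeroDivisors hxy)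
    rw [map_mul, ← hp, ← hq, pow_add, map_mul, mul_mul_mul_comm, Units.mul_inv, one_mul]
  have hmon : xy ^ (N + N') = MvPolynomial.monomial
      ((Finsupp.single 0 (N + N')) + (Finsupp.single 1 (N + N'))) (1 : k) := by
    simp only [xy, mul_pow, MvPolynomial.X_pow_eq_monomial, MvPolynomial.monomial_mul, mul_one]
  obtain ⟨s, c, -, -, hps⟩ := (MvPolynomial.dvd_monomial_iff_exists one_ne_zero).1 (hmon ▸ Dvd.intro q hpq)
  have key : ∀ (B : Type u) [CommRing B] [Algebra k B] (a b : Bˣ),
      (μ B a b : B) * ((a : B) * b) ^ N = algebraMap k B c * (a : B) ^ s 0 * (b : B) ^ s 1 := by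
    intro B _ _ a b
    let g : (MvPolynomial (Fin 2) k) →ₐ[k] B := MvPolynomial.aeval ![(a : B), (b : B)]
    have hg : ∀ w : Submonoid.powers xy, IsUnit (g w) := by
      rintro ⟨_, n, rfl⟩
      simp only [g, xy, map_pow, map_mul, MvPolynomial.aeval_X]
      exact (a.isUnit.mul b.isUnit).pow n
    let φ : Λ →ₐ[k] B := IsLocalization.liftAlgHom (M := Submonoid.powers xy) hg
    have hφ : ∀ z, φ (algebraMap (MvPolynomial (Fin 2) k) Λ z) = g z := fun z => by simp [φ]
    have hx : Units.map (φ : Λ →* B) x = a := Units.ext ((hφ _).trans (by simp [g]))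
    have hy : Units.map (φ : Λ →* B) y = b := Units.ext ((hφ _).trans (by simp [g]))
    have h := congrArg φ hp
    rw [map_mul, hφ, hφ, hps] at h
    have hμ : φ (F : Λ) = (μ B a b : B) := by
      rw [← hx, ← hy, ← nat]; rfl
    rw [hμ] at h
    simpa [g, xy, MvPolynomial.aeval_monomial, Finsupp.prod_fintype, Fin.prod_univ_two, mul_assoc] using h
  have hcu : IsUnit c := by
    have h := key k 1 1
    simp at h
    exact h ▸ (μ k 1 1).isUnit
  let i : ℤ := (s 0 : ℤ) - N
  let j : ℤ := (s 1 : ℤ) - N
  have key' : ∀ (B : Type u) [CommRing B] [Algebra k B] (a b : Bˣ),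
      μ B a b = Units.map (algebraMap k B : k →* B) hcu.unit * a ^ i * b ^ j := by
    intro B _ _ a b
    have h : μ B a b * (a * b) ^ N = Units.map (algebraMap k B : k →* B) hcu.unit * a ^ s 0 * b ^ s 1 :=
      Units.ext (key B a b)
    rw [← eq_mul_inv_iff_mul_eq] at h
    rw [h, zpow_sub, zpow_sub, zpow_natCast, zpow_natCast, zpow_natCast, zpow_natCast, mul_pow, mul_inv]
    ac_rfl
  let K := RatFunc k
  let t : Kˣ := Units.mk0 RatFunc.X RatFunc.X_ne_zero
  have hexp : ∀ (m : ℤ) (d : kˣ), Units.map (algebraMap k K : k →* K) d * t ^ m = t → m = 1 := by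
    intro m d h
    have h2 := congrArg (fun u : Kˣ => RatFunc.intDegree (u : K)) h
    have hd : algebraMap k K (d : k) ≠ 0 := by simp
    simp only [Units.val_mul, Units.coe_map, Units.val_zpow_eq_zpow_val, MonoidHom.coe_coe, t, Units.val_mk0] at h2
    rw [RatFunc.intDegree_mul hd (zpow_ne_zero _ RatFunc.X_ne_zero), RatFunc.intDegree_X] at h2
    have h3 : ∀ n : ℕ, RatFunc.intDegree ((RatFunc.X : K) ^ n) = n := fun n => by
      induction n with
      | zero => simp
      | succ n ih =>
        rw [pow_succ, RatFunc.intDegree_mul (pow_ne_zero _ RatFunc.X_ne_zero) RatFunc.X_ne_zero, ih,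
          RatFunc.intDegree_X]
        simp
    have h4 : RatFunc.intDegree (algebraMap k K (d : k)) = 0 := by
      rw [RatFunc.algebraMap_eq_C]; exact RatFunc.intDegree_C _
    rcases Int.eq_nat_or_neg m with ⟨n, rfl | rfl⟩
    · rw [zpow_natCast, h3, h4] at h2
      simpa using h2
    · rw [zpow_neg, zpow_natCast, RatFunc.intDegree_inv, h3, h4] at h2
      omega
  have hi : i = 1 := by
    have h := (hone K t).2
    rw [key', mul_right_comm, ← map_zpow, ← map_mul] at h
    exact hexp i _ h
  have hj : j = 1 := by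
    have h := (hone K t).1
    rw [key', ← map_zpow, ← map_mul] at h
    exact hexp j _ h
  have hc : hcu.unit = e⁻¹ := by
    have h := (hone k e).1
    rw [key', hi, hj] at h
    simp at h
    exact eq_inv_of_mul_eq_one_left h
  rw [key', hi, hj, hc, zpow_one, zpow_one, map_inv]

end Groth.Agent.AffPts
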