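import Groth.Agent.AffPts.Group
import Groth.Agent.AffPts.Laws

/-!
Group structures on the line and on the punctured line with given unit.
-/

universe u

open CategoryTheory Limits MonoidalCategory CartesianMonoidalCategory AlgebraicGeometry

namespace Groth.Agent.AffPts

variable (k : Type u) [Field k]

attribute [local irreducible] gaPts gmPts ptsEquiv

/-- Two group structures on the line with the same unit have the same multiplication. -/
theorem ga_mul_eq (h₁ h₂ : GrpObj (Red.Ga (Spec (CommRingCat.of k)))) (e : h₁.one = h₂.one) : h₁.mul = h₂.mul := by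
  haveI : IsAffine (Red.Ga (Spec (CommRingCat.of k)) ⊗ Red.Ga (Spec (CommRingCat.of k))).left :=
    isAffine_tensor (C := SymmetricAlgebra (ULift.{u} ℤ) (ULift.{u} ℤ))
  let P : ∀ (B : Type u) [CommRing B] [Algebra k B], (specOver k B ⟶ Red.Ga (Spec (CommRingCat.of k))) ≃ B :=
    fun B _ _ => gaPts B
  have key : ∀ (h : GrpObj (Red.Ga (Spec (CommRingCat.of k)))) (B : Type u) [CommRing B] [Algebra k B] (a b : B),
      ptMul (V := fun B _ _ => B) P h B a b = a + b - algebraMap k B (ptOne (V := fun B _ _ => B) P h k) := by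
    intro h B _ _ a b
    have hone : ∀ (B : Type u) [CommRing B] [Algebra k B],
        algebraMap k B (ptOne (V := fun B _ _ => B) P h k) = ptOne (V := fun B _ _ => B) P h B := fun B _ _ =>
      ptOne_nat (V := fun B _ _ => B) (pts := P) (h := h) (Algebra.ofId k B) (fun x => algebraMap k B x)
        (fun f => gaPts_specMap (Algebra.ofId k B) f)
    refine ga_law (fun B _ _ a b => ptMul (V := fun B _ _ => B) P h B a b) (ptOne (V := fun B _ _ => B) P h k)
      ?_ ?_ ?_ ?_ B a b
    · intro B B' _ _ _ _ φ a b
      exact ptMul_nat (V := fun B _ _ => B) (pts := P) (h := h) φ (fun x => φ x) (fun f => gaPts_specMap φ f) a b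
    · intro B _ _ a b c
      exact ptMul_assoc (V := fun B _ _ => B) (pts := P) (h := h) B a b c
    · intro B _ _ a
      rw [hone]
      exact ptMul_one (V := fun B _ _ => B) (pts := P) (h := h) B a
    · intro a
      exact ptMul_inv (V := fun B _ _ => B) (pts := P) (h := h) k a
  refine mul_eq_of_ptMul (V := fun B _ _ => B) (pts := P) h₁ h₂ fun B _ _ a b => ?_
  rw [key h₁, key h₂]
  simp only [ptOne, e]

/-- Two group structures on the punctured line with the same unit have the same multiplication. -/
theorem gm_mul_eq (h₁ h₂ : GrpObj (Red.Gm (Spec (CommRingCat.of k)))) (e : h₁.one = h₂.one) : h₁.mul = h₂.mul := by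
  haveI : IsAffine (Red.Gm (Spec (CommRingCat.of k)) ⊗ Red.Gm (Spec (CommRingCat.of k))).left :=
    isAffine_tensor (C := MonoidAlgebra (ULift.{u} ℤ) (Multiplicative ℤ))
  let P : ∀ (B : Type u) [CommRing B] [Algebra k B], (specOver k B ⟶ Red.Gm (Spec (CommRingCat.of k))) ≃ Bˣ :=
    fun B _ _ => gmPts B
  have key : ∀ (h : GrpObj (Red.Gm (Spec (CommRingCat.of k)))) (B : Type u) [CommRing B] [Algebra k B] (a b : Bˣ),
      ptMul (V := fun B _ _ => Bˣ) P h B a b =
        (Units.map (algebraMap k B : k →* B) (ptOne (V := fun B _ _ => Bˣ) P h k))⁻¹ * a * b := by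
    intro h B _ _ a b
    have hone : ∀ (B : Type u) [CommRing B] [Algebra k B],
        Units.map (algebraMap k B : k →* B) (ptOne (V := fun B _ _ => Bˣ) P h k) =
          ptOne (V := fun B _ _ => Bˣ) P h B := fun B _ _ =>
      ptOne_nat (V := fun B _ _ => Bˣ) (pts := P) (h := h) (Algebra.ofId k B)
        (fun x => Units.map (algebraMap k B : k →* B) x) (fun f => gmPts_specMap (Algebra.ofId k B) f)
    refine gm_law (fun B _ _ a b => ptMul (V := fun B _ _ => Bˣ) P h B a b) (ptOne (V := fun B _ _ => Bˣ) P h k)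
      ?_ ?_ B a b
    · intro B B' _ _ _ _ φ a b
      exact ptMul_nat (V := fun B _ _ => Bˣ) (pts := P) (h := h) φ (fun x => Units.map (φ : B →* B') x)
        (fun f => gmPts_specMap φ f) a b
    · intro B _ _ a
      rw [hone]
      exact ptMul_one (V := fun B _ _ => Bˣ) (pts := P) (h := h) B a
  refine mul_eq_of_ptMul (V := fun B _ _ => Bˣ) (pts := P) h₁ h₂ fun B _ _ a b => ?_
  rw [key h₁, key h₂]
  simp only [ptOne, e]

end Groth.Agent.AffPts
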